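import Mathlib

/-!
# A finite graded module with prescribed degree-zero localisation
-/

set_option autoImplicit false
set_option linter.all false
set_option maxHeartbeats 800000
set_option backward.isDefEq.respectTransparency false

universe u

open Polynomial DirectSum HomogeneousLocalization

namespace GrothLib.GrModAway2

variable {R R' : Type u} [CommRing R] [CommRing R'] [Algebra R R']
  {S : Type u} [CommRing S] [Algebra R S] (𝒜 : ℕ → Submodule R S) [GradedAlgebra 𝒜] {f : S} (hf : f ∈ 𝒜 1)
  (e : HomogeneousLocalization.Away 𝒜 f ≃+* R')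

/-- `s / f ^ d` for `s` of degree `d`. -/
noncomputable def frac (d : ℕ) (s : 𝒜 d) : R' :=
  e (Away.mk 𝒜 hf d s (by rw [smul_eq_mul, mul_one]; exact s.2))

theorem frac_add (d : ℕ) (s t : 𝒜 d) : frac 𝒜 hf e d (s + t) = frac 𝒜 hf e d s + frac 𝒜 hf e d t := by
  rw [frac, frac, frac, ← map_add]
  congr 1
  apply HomogeneousLocalization.val_injective
  rw [val_add, Away.val_mk, Away.val_mk, Away.val_mk, Localization.add_mk_self]
  rfl

theorem frac_mul {i j : ℕ} (s : 𝒜 i) (t : 𝒜 j) :
    frac 𝒜 hf e (i + j) ⟨(s : S) * t, SetLike.mul_mem_graded s.2 t.2⟩ = frac 𝒜 hf e i s * frac 𝒜 hf e j t := by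
  rw [frac, frac, frac, ← map_mul]
  congr 1
  apply HomogeneousLocalization.val_injective
  rw [val_mul, Away.val_mk, Away.val_mk, Away.val_mk, Localization.mk_mul]
  exact congrArg (Localization.mk _) (Subtype.ext (pow_add f i j))

theorem frac_self (k : ℕ) (h : f ^ k ∈ 𝒜 k) : frac 𝒜 hf e k ⟨f ^ k, h⟩ = 1 := by
  rw [frac, ← map_one e]
  congr 1
  apply HomogeneousLocalization.val_injective
  rw [Away.val_mk, val_one]
  exact Localization.mk_self (⟨f ^ k, ⟨k, rfl⟩⟩ : Submonoid.powers f)

theorem one_mem_zero : (1 : S) ∈ 𝒜 0 := SetLike.one_mem_graded 𝒜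

theorem frac_one : frac 𝒜 hf e 0 ⟨1, one_mem_zero 𝒜⟩ = 1 := by
  have h : f ^ 0 ∈ 𝒜 0 := by rw [pow_zero]; exact one_mem_zero 𝒜
  rw [← frac_self 𝒜 hf e 0 h]
  exact congrArg (frac 𝒜 hf e 0) (Subtype.ext (pow_zero f).symm)

/-- Dehomogenisation, keeping track of the degree. -/
noncomputable def dehom : S →+* R'[X] :=
  (DirectSum.toSemiring (A := fun i => 𝒜 i)
    (fun d => (monomial d).toAddMonoidHom.comp (AddMonoidHom.mk' (frac 𝒜 hf e d) (frac_add 𝒜 hf e d)))
    (by
      show monomial 0 (frac 𝒜 hf e 0 ⟨1, _⟩) = 1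
      rw [frac_one, monomial_zero_one])
    (fun {i j} s t => by
      show monomial (i + j) (frac 𝒜 hf e (i + j) ⟨(s : S) * t, _⟩) = monomial i _ * monomial j _
      rw [monomial_mul_monomial, frac_mul]
      rfl)).comp (decomposeRingEquiv 𝒜).toRingHom

theorem dehom_of_mem {d : ℕ} {s : S} (hs : s ∈ 𝒜 d) :
    dehom 𝒜 hf e s = monomial d (frac 𝒜 hf e d ⟨s, hs⟩) := by
  unfold dehom
  simp only [RingHom.coe_comp, Function.comp_apply]
  erw [decompose_of_mem 𝒜 hs, toSemiring_of]
  rfl

theorem dehom_algebraMap
    (he : ∀ r : R, (e.symm (algebraMap R R' r)).val = algebraMap S (Localization.Away f) (algebraMap R S r)) (r : R) :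
    dehom 𝒜 hf e (algebraMap R S r) = algebraMap R R'[X] r := by
  rw [dehom_of_mem 𝒜 hf e (SetLike.algebraMap_mem_graded 𝒜 r), Polynomial.algebraMap_apply, monomial_zero_left]
  congr 1
  rw [frac]
  apply e.symm.injective
  rw [RingEquiv.symm_apply_apply]
  apply HomogeneousLocalization.val_injective
  rw [he, Away.val_mk, ← Localization.mk_algebraMap]
  refine Localization.mk_eq_mk_iff.2 (Localization.r_of_eq ?_)
  simp

include hf in
theorem exists_gradedModule (M : Type u) [AddCommGroup M] [Module R' M] [Module R M] [IsScalarTower R R' M]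
    [Module.Finite R' M]
    (he : ∀ r : R, (e.symm (algebraMap R R' r)).val = algebraMap S (Localization.Away f) (algebraMap R S r)) :
    ∃ (N : Type u) (_ : AddCommGroup N) (_ : Module S N) (_ : Module R N) (_ : IsScalarTower R S N)
      (ℳ : ℕ → Submodule R N) (_ : DirectSum.Decomposition ℳ) (_ : SetLike.GradedSMul 𝒜 ℳ)
      (Nf : Submodule R (LocalizedModule (Submonoid.powers f) N)) (e' : ↥Nf ≃ₗ[R] M),
      Module.Finite S N ∧
      (∀ x, x ∈ Nf ↔ ∃ k : ℕ, ∃ n ∈ ℳ k, f ^ k • x = LocalizedModule.mk n 1) ∧
      (∀ (a : HomogeneousLocalization.Away 𝒜 f) (x y : ↥Nf),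
        a.val • (x : LocalizedModule (Submonoid.powers f) N) = y → e' y = e a • e' x) := by
  classical
  let φ := dehom 𝒜 hf e
  let PM := PolynomialModule R' M
  letI : Module S PM := Module.compHom _ φ
  have hsm : ∀ (s : S) (x : PM), s • x = φ s • x := fun _ _ => rfl
  haveI : IsScalarTower R S PM := IsScalarTower.of_algebraMap_smul fun r x => by
    rw [hsm, dehom_algebraMap 𝒜 hf e he]
    exact IsScalarTower.algebraMap_smul R'[X] r x
  have hhom : ∀ {d : ℕ} {s : S} (hs : s ∈ 𝒜 d) (j : ℕ) (m : M),
      s • (PolynomialModule.single R' j m : PM) = PolynomialModule.single R' (d + j) (frac 𝒜 hf e d ⟨s, hs⟩ • m) :=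
    fun {d s} hs j m => by rw [hsm, dehom_of_mem 𝒜 hf e hs, PolynomialModule.monomial_smul_single]
  have hfk : ∀ k, f ^ k ∈ 𝒜 k := fun k => by simpa using SetLike.pow_mem_graded k hf
  obtain ⟨G, hG⟩ := Module.Finite.fg_top (R := R') (M := M)
  let N : Submodule S PM := Submodule.span S (Set.range fun g : G => (PolynomialModule.single R' 0 (g : M) : PM))
  haveI : Module.Finite S N := Module.Finite.span_of_finite S (Set.finite_range _)
  -- components stay in `N`
  have hcomp : ∀ (x : PM), x ∈ N → ∀ d, (PolynomialModule.single R' d (x.coeff d) : PM) ∈ N := by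
    intro x hx
    induction hx using Submodule.span_induction with
    | mem y hy =>
      obtain ⟨g, rfl⟩ := hy
      intro d
      by_cases h : d = 0
      · subst h; rw [PolynomialModule.coeff_single, Finsupp.single_eq_same]; exact Submodule.subset_span (Set.mem_range_self g)
      · rw [PolynomialModule.coeff_single, Finsupp.single_eq_of_ne h, PolynomialModule.single_zero]; exact zero_mem _
    | zero => intro d; simp
    | add y z _ _ hy hz =>
      intro d
      rw [PolynomialModule.coeff_add, Finsupp.add_apply, PolynomialModule.single_add]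
      exact add_mem (hy d) (hz d)
    | smul s y _ hy =>
      intro d
      rw [hsm, PolynomialModule.smul_apply]
      change PolynomialModule.lsingle R' d _ ∈ N
      rw [map_sum]
      refine sum_mem fun p hp => ?_
      change PolynomialModule.single R' d ((φ s).coeff p.1 • y.coeff p.2) ∈ N
      have hco : (φ s).coeff p.1 = frac 𝒜 hf e p.1 (decompose 𝒜 s p.1) := by
        conv_lhs => rw [← DirectSum.sum_support_decompose 𝒜 s, map_sum]
        rw [finset_sum_coeff, Finset.sum_eq_single p.1]
        · rw [dehom_of_mem 𝒜 hf e (Subtype.coe_prop _), coeff_monomial, if_pos rfl]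
        · intro b _ hb
          rw [dehom_of_mem 𝒜 hf e (Subtype.coe_prop _), coeff_monomial, if_neg hb]
        · intro h
          rw [DFinsupp.notMem_support_iff.1 h]
          simp
      have := Submodule.smul_mem N ((decompose 𝒜 s p.1 : S)) (hy p.2)
      rw [hhom (Subtype.coe_prop _), ← hco, Finset.HasAntidiagonal.mem_antidiagonal.1 hp] at this
      exact this
  let ℳ : ℕ → Submodule R N := fun d =>
    { carrier := {x | ∀ j, j ≠ d → (x : PM).coeff j = 0}
      add_mem' := fun {x y} hx hy j hj => by
        show ((x : PM) + y).coeff j = 0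
        rw [PolynomialModule.coeff_add, Finsupp.add_apply, hx j hj, hy j hj, add_zero]
      zero_mem' := fun j _ => rfl
      smul_mem' := fun r x hx j hj => by
        show (r • (x : PM)).coeff j = 0
        rw [show (r • (x : PM)).coeff j = r • (x : PM).coeff j from rfl, hx j hj, smul_zero] }
  let cp : ℕ → N → N := fun d x => ⟨PolynomialModule.single R' d ((x : PM).coeff d), hcomp _ x.2 d⟩
  have hcpmem : ∀ d x, cp d x ∈ ℳ d := fun d x j hj => by
    show (PolynomialModule.single R' d _).coeff j = 0
    rw [PolynomialModule.coeff_single, Finsupp.single_eq_of_ne hj]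
  have hint : DirectSum.IsInternal ℳ := by
    rw [DirectSum.isInternal_submodule_iff_iSupIndep_and_iSup_eq_top]
    constructor
    · intro d
      rw [Submodule.disjoint_def]
      intro x hx hx'
      have key : ∀ y ∈ ⨆ (j : ℕ) (_ : j ≠ d), ℳ j, (y : PM).coeff d = 0 := by
        intro y hy
        induction hy using Submodule.iSup_induction' with
        | zero => rfl
        | add a b _ _ ha hb =>
          show ((a : PM) + b).coeff d = 0
          rw [PolynomialModule.coeff_add, Finsupp.add_apply, ha, hb, add_zero]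
        | mem j a ha =>
          by_cases hj : j ≠ d
          · rw [iSup_pos hj] at ha; exact ha d (Ne.symm hj)
          · rw [iSup_neg hj, Submodule.mem_bot] at ha; subst ha; rfl
      refine Subtype.ext (PolynomialModule.ext (Finsupp.ext fun j => ?_))
      by_cases hj : j = d
      · subst hj; exact key x hx'
      · exact hx j hj
    · refine eq_top_iff.2 fun x _ => ?_
      have : x = ∑ d ∈ (x : PM).coeff.support, cp d x := by
        refine Subtype.ext ?_
        rw [Submodule.coe_sum]
        refine PolynomialModule.ext ?_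
        rw [PolynomialModule.coeff_sum]
        simp only [cp, PolynomialModule.coeff_single]
        exact (Finsupp.sum_single _).symm
      rw [this]
      exact sum_mem fun d _ => Submodule.mem_iSup_of_mem d (hcpmem d x)
  letI hdec : DirectSum.Decomposition ℳ := hint.chooseDecomposition
  have hsingle : ∀ {d : ℕ} {x : N}, x ∈ ℳ d → (x : PM) = PolynomialModule.single R' d ((x : PM).coeff d) := by
    intro d x hx
    refine PolynomialModule.ext (Finsupp.ext fun j => ?_)
    rw [PolynomialModule.coeff_single]
    by_cases hj : j = d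
    · subst hj; rw [Finsupp.single_eq_same]
    · rw [Finsupp.single_eq_of_ne hj]; exact hx j hj
  haveI hgr : SetLike.GradedSMul 𝒜 ℳ := ⟨fun {i j s x} hs hx l hl => by
    show ((s • (x : PM)) : PM).coeff l = 0
    rw [hsingle hx, hhom hs, PolynomialModule.coeff_single, Finsupp.single_eq_of_ne (by simpa using hl)]⟩
  -- evaluation at one
  let χ : S →+* R' := (Polynomial.evalRingHom (1 : R')).comp φ
  letI : Module S M := Module.compHom _ χ
  have hχ : ∀ (s : S) (m : M), s • m = χ s • m := fun _ _ => rfl
  haveI : IsScalarTower R S M := IsScalarTower.of_algebraMap_smul fun r m => by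
    rw [hχ]
    show Polynomial.eval 1 (φ (algebraMap R S r)) • m = _
    rw [dehom_algebraMap 𝒜 hf e he, Polynomial.algebraMap_apply, Polynomial.eval_C]
    exact IsScalarTower.algebraMap_smul R' r m
  have hevl : ∀ (p : R'[X]) (x : PM), PolynomialModule.eval (1 : R') (p • x) = p.eval 1 • PolynomialModule.eval (1 : R') x :=
    fun p x => PolynomialModule.eval_smul p x _
  let ε : N →ₗ[S] M :=
    { toFun := fun x => PolynomialModule.eval (1 : R') (x : PM)
      map_add' := fun x y => map_add (PolynomialModule.eval (1 : R')) (x : PM) y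
      map_smul' := fun s x => hevl (φ s) x }
  have hunit : ∀ s : Submonoid.powers f, IsUnit (algebraMap S (Module.End S M) s) := by
    rintro ⟨_, k, rfl⟩
    have hid : algebraMap S (Module.End S M) (f ^ k) = 1 := LinearMap.ext fun m => by
      show (f ^ k) • m = m
      rw [hχ]
      show Polynomial.eval 1 (φ (f ^ k)) • m = m
      rw [dehom_of_mem 𝒜 hf e (hfk k), frac_self, Polynomial.eval_monomial, one_pow, mul_one, one_smul]
    exact hid.symm ▸ isUnit_one
  let L : LocalizedModule (Submonoid.powers f) N →ₗ[S] M := LocalizedModule.lift _ ε hunit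
  have hLpow : ∀ (k : ℕ) (x : LocalizedModule (Submonoid.powers f) N), L (f ^ k • x) = L x := by
    intro k x
    rw [L.map_smul, hχ]
    show Polynomial.eval 1 (φ (f ^ k)) • _ = _
    rw [dehom_of_mem 𝒜 hf e (hfk k), frac_self, Polynomial.eval_monomial, one_pow, mul_one, one_smul]
  let Nf : Submodule R (LocalizedModule (Submonoid.powers f) N) :=
    { carrier := {x | ∃ k : ℕ, ∃ n ∈ ℳ k, f ^ k • x = LocalizedModule.mk n 1}
      zero_mem' := ⟨0, 0, zero_mem _, by rw [smul_zero, LocalizedModule.zero_mk]⟩
      add_mem' := by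
        rintro x y ⟨k, n, hn, hx⟩ ⟨k', n', hn', hy⟩
        refine ⟨k + k', f ^ k' • n + f ^ k • n', add_mem ?_ ?_, ?_⟩
        · rw [add_comm k]; exact hgr.smul_mem (hfk k') hn
        · exact hgr.smul_mem (hfk k) hn'
        · rw [smul_add, pow_add, mul_comm, mul_smul, hx, mul_comm, mul_smul, hy, LocalizedModule.smul'_mk,
            LocalizedModule.smul'_mk, LocalizedModule.mk_add_mk]
          simp only [one_smul, mul_one]
      smul_mem' := by
        rintro r x ⟨k, n, hn, hx⟩
        refine ⟨k, r • n, Submodule.smul_mem _ r hn, ?_⟩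
        rw [smul_comm, hx, ← algebraMap_smul S r, LocalizedModule.smul'_mk, algebraMap_smul] }
  have hev : ∀ {k : ℕ} {n : N}, n ∈ ℳ k → ε n = (n : PM).coeff k := fun {k n} hn => by
    show PolynomialModule.eval (1 : R') (n : PM) = _
    conv_lhs => rw [hsingle hn, PolynomialModule.eval_single, one_pow, one_smul]
  let L' : Nf →ₗ[R] M := (L.restrictScalars R).comp Nf.subtype
  have hL' : ∀ z : Nf, L' z = L z.1 := fun z => rfl
  have hbij : Function.Bijective L' := by
    constructor
    · suffices h0 : ∀ a, L' a = 0 → a = 0 from fun a b h => sub_eq_zero.1 (h0 (a - b) (by rw [hL', Submodule.coe_sub, map_sub, ← hL', ← hL', h, sub_self]))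
      rintro ⟨x, k, n, hn, hx⟩ hx0
      have h1 : L x = 0 := hx0
      rw [← hLpow k, hx, LocalizedModule.lift_mk_one, hev hn] at h1
      have hn0 : n = 0 := Subtype.ext (by rw [hsingle hn, h1, PolynomialModule.single_zero]; rfl)
      rw [hn0, LocalizedModule.zero_mk] at hx
      refine Subtype.ext ?_
      show x = 0
      have hu := Module.End.isUnit_iff _ |>.1
        (IsLocalizedModule.map_units (LocalizedModule.mkLinearMap (Submonoid.powers f) N) (⟨f ^ k, k, rfl⟩ : Submonoid.powers f))
      exact hu.1 (hx.trans (smul_zero (f ^ k)).symm)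
    · intro m
      suffices h : ∀ m : M, m ∈ LinearMap.range L' from h m
      intro m
      have hm : m ∈ Submodule.span R' (G : Set M) := hG ▸ trivial
      induction hm using Submodule.span_induction with
      | mem g hg =>
        refine ⟨⟨LocalizedModule.mk ⟨PolynomialModule.single R' 0 g, Submodule.subset_span ⟨⟨g, hg⟩, rfl⟩⟩ 1, 0, _,
          fun j hj => ?_, by rw [pow_zero, one_smul]⟩, ?_⟩
        · show (PolynomialModule.single R' 0 g).coeff j = 0
          rw [PolynomialModule.coeff_single, Finsupp.single_eq_of_ne hj]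
        · rw [hL']
          rw [LocalizedModule.lift_mk_one]
          show PolynomialModule.eval (1 : R') _ = g
          rw [PolynomialModule.eval_single, pow_zero, one_smul]
      | zero => exact zero_mem _
      | add x y _ _ hx hy => exact add_mem hx hy
      | smul c x _ hx =>
        obtain ⟨⟨z, k, n, hn, hz⟩, rfl⟩ := hx
        obtain ⟨j, s, hs, hc⟩ := Away.mk_surjective 𝒜 hf (e.symm c)
        have hs' : s ∈ 𝒜 j := by simpa using hs
        have hfr : frac 𝒜 hf e j ⟨s, hs'⟩ = c := by rw [frac, hc, RingEquiv.apply_symm_apply]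
        refine ⟨⟨LocalizedModule.mk (s • n) ⟨f ^ (j + k), j + k, rfl⟩, j + k, s • n, hgr.smul_mem hs' hn, ?_⟩, ?_⟩
        · rw [LocalizedModule.smul'_mk]
          refine LocalizedModule.mk_eq.2 ⟨1, ?_⟩
          simp [Submonoid.smul_def]
        · rw [hL', hL']
          rw [← hLpow (j + k) (LocalizedModule.mk _ _), ← hLpow k z, hz, LocalizedModule.smul'_mk,
            show LocalizedModule.mk (f ^ (j + k) • (s • n)) (⟨f ^ (j + k), j + k, rfl⟩ : Submonoid.powers f) =
              LocalizedModule.mk (s • n) 1 from LocalizedModule.mk_eq.2 ⟨1, by simp [Submonoid.smul_def]⟩,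
            LocalizedModule.lift_mk_one, LocalizedModule.lift_mk_one, map_smul, hχ]
          show Polynomial.eval 1 (φ s) • _ = _
          rw [dehom_of_mem 𝒜 hf e hs', hfr, Polynomial.eval_monomial, one_pow, mul_one]
  refine ⟨N, inferInstance, inferInstance, inferInstance, inferInstance, ℳ, hdec, hgr, Nf,
    LinearEquiv.ofBijective L' hbij, inferInstance, fun x => Iff.rfl, fun a x y hxy => ?_⟩
  obtain ⟨j, s, hs, rfl⟩ := Away.mk_surjective 𝒜 hf a
  have hs' : s ∈ 𝒜 j := by simpa using hs
  show L y = e _ • L x
  have h1 : f ^ j • (y : LocalizedModule (Submonoid.powers f) N) = s • (x : LocalizedModule (Submonoid.powers f) N) := by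
    rw [← hxy, Away.val_mk, ← smul_assoc, ← algebraMap_smul (Localization.Away f) s]
    congr 1
    rw [Algebra.smul_def, ← Localization.mk_one_eq_algebraMap, ← Localization.mk_one_eq_algebraMap, Localization.mk_mul]
    refine Localization.mk_eq_mk_iff.2 (Localization.r_of_eq ?_)
    simp
  have h2 := congrArg L h1
  rw [hLpow, L.map_smul, hχ] at h2
  rw [h2]
  show Polynomial.eval 1 (φ s) • _ = _
  rw [dehom_of_mem 𝒜 hf e hs', Polynomial.eval_monomial, one_pow, mul_one]
  rfl

end GrothLib.GrModAway2
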